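import Cfsg.Agent.H129.WData

/-!
# A torus of order `33` of `²E₆(2)` (helper56)

`Th`, `chain` : the matrix of the twisted Weyl group element and its word; `b11`, `b3` : eigenvectors of the
multiplication by `2` modulo `11` and `3`.
-/

set_option autoImplicit false

namespace Cfsg.Agent.H56.Te6two

open Cfsg.Agent.H129.TorusTw Cfsg.Agent.H129.WData Cfsg.Agent.ChevalleyStructure.CoxeterGeomTypes
open Cfsg.Lie Cfsg.Lie.ChevalleyDatum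

/-- the Cartan matrix -/
def Am : Mat 6 := ![![2, 0, -1, 0, 0, 0],
    ![0, 2, 0, -1, 0, 0],
    ![-1, 0, 2, -1, 0, 0],
    ![0, -1, -1, 2, -1, 0],
    ![0, 0, 0, -1, 2, -1],
    ![0, 0, 0, 0, -1, 2]]

/-- the partial products -/
def chain : List (Fin 6 × Mat 6) := [
    (2, ![![-1, 0, -1, -1, -1, 0],
      ![0, -1, -1, -2, -1, 0],
      ![1, 0, 1, 1, 0, 0],
      ![0, 1, 1, 1, 1, 0],
      ![0, 0, -1, 0, 0, 0],
      ![0, 0, 1, 1, 1, 1]]),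
    (3, ![![-1, 0, -1, -1, -1, 0],
      ![0, -1, -1, -2, -1, 0],
      ![1, 0, 1, 1, 0, 0],
      ![0, 1, 0, 1, 1, 0],
      ![0, 0, 1, 0, 0, 0],
      ![0, 0, 0, 1, 1, 1]]),
    (4, ![![-1, 0, -1, -1, -1, 0],
      ![0, -1, -1, -1, -1, 0],
      ![1, 0, 1, 0, 0, 0],
      ![0, 1, 0, 1, 1, 0],
      ![0, 0, 1, 1, 0, 0],
      ![0, 0, 0, 0, 1, 1]]),
    (2, ![![-1, 0, -1, -1, 0, 0],
      ![0, -1, -1, -1, 0, 0],
      ![1, 0, 1, 0, 0, 0],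
      ![0, 1, 0, 1, 0, 0],
      ![0, 0, 1, 1, 1, 0],
      ![0, 0, 0, 0, 0, 1]]),
    (3, ![![-1, 0, -1, -1, 0, 0],
      ![0, -1, 0, -1, 0, 0],
      ![1, 0, 0, 0, 0, 0],
      ![0, 1, 1, 1, 0, 0],
      ![0, 0, 0, 1, 1, 0],
      ![0, 0, 0, 0, 0, 1]]),
    (2, ![![-1, 0, -1, 0, 0, 0],
      ![0, -1, 0, 0, 0, 0],
      ![1, 0, 0, 0, 0, 0],
      ![0, 1, 1, 1, 0, 0],
      ![0, 0, 0, 0, 1, 0],
      ![0, 0, 0, 0, 0, 1]]),
    (1, ![![-1, 0, 0, 0, 0, 0],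
      ![0, -1, 0, 0, 0, 0],
      ![1, 0, 1, 0, 0, 0],
      ![0, 1, 0, 1, 0, 0],
      ![0, 0, 0, 0, 1, 0],
      ![0, 0, 0, 0, 0, 1]]),
    (0, ![![-1, 0, 0, 0, 0, 0],
      ![0, 1, 0, 0, 0, 0],
      ![1, 0, 1, 0, 0, 0],
      ![0, 0, 0, 1, 0, 0],
      ![0, 0, 0, 0, 1, 0],
      ![0, 0, 0, 0, 0, 1]])]

/-- the matrix of the twisted Frobenius map on the roots -/
def Th : Mat 6 := ![![0, 0, 1, 1, 1, 1],
      ![0, -1, -1, -2, -1, 0],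
      ![0, 0, -1, 0, 0, 0],
      ![0, 1, 1, 1, 1, 0],
      ![1, 0, 1, 1, 0, 0],
      ![-1, 0, -1, -1, -1, 0]]

theorem chain_ok : ChainOK Am chain := by decide +kernel

theorem Am_eq : ∀ i j, Am i j = cartanOf chevE6 6 i j := by decide +kernel

theorem hT : ∀ j, hd chain ((![5, 1, 4, 3, 2, 0] : Fin 6 → Fin 6) j) = Th j := by decide +kernel

/-- an eigenvector modulo `11` -/
def b11 : Fin 6 → ZMod 11 := ![7, 7, 0, 10, 3, 1]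

/-- eigenvectors modulo `3` -/
def b3 : Fin 4 → Fin 6 → ZMod 3 := ![![0, 0, 0, 0, 0, 0], ![1, 0, 1, 1, 0, 0], ![0, 0, 2, 0, 1, 0], ![1, 0, 0, 1, 1, 0]]

theorem b11_ok : ∀ j, ∑ m, (Th j m : ZMod 11) * b11 m = 2 * b11 j := by decide +kernel

theorem b3_ok : ∀ i j, ∑ m, (Th j m : ZMod 3) * b3 i m = 2 * b3 i j := by decide +kernel

theorem b3_inj : Function.Injective b3 := by decide +kernel

/-- the orbit of `27` vectors -/
def om : Fin 27 → Fin 6 → ℤ := ![![4, 3, 5, 6, 4, 2],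
    ![1, 3, 5, 6, 4, 2],
    ![1, 3, 2, 6, 4, 2],
    ![1, 3, 2, 3, 4, 2],
    ![1, 0, 2, 3, 4, 2],
    ![1, 3, 2, 3, 1, 2],
    ![1, 0, 2, 3, 1, 2],
    ![1, 3, 2, 3, 1, -1],
    ![1, 0, 2, 0, 1, 2],
    ![1, 0, 2, 3, 1, -1],
    ![1, 0, -1, 0, 1, 2],
    ![1, 0, 2, 0, 1, -1],
    ![-2, 0, -1, 0, 1, 2],
    ![1, 0, -1, 0, 1, -1],
    ![1, 0, 2, 0, -2, -1],
    ![-2, 0, -1, 0, 1, -1],
    ![1, 0, -1, 0, -2, -1],
    ![-2, 0, -1, 0, -2, -1],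
    ![1, 0, -1, -3, -2, -1],
    ![-2, 0, -1, -3, -2, -1],
    ![1, -3, -1, -3, -2, -1],
    ![-2, -3, -1, -3, -2, -1],
    ![-2, 0, -4, -3, -2, -1],
    ![-2, -3, -4, -3, -2, -1],
    ![-2, -3, -4, -6, -2, -1],
    ![-2, -3, -4, -6, -5, -1],
    ![-2, -3, -4, -6, -5, -4]]

/-- the action of the simple reflections on the orbit -/
def pm : Fin 6 → Fin 27 → Fin 27 := ![![1, 0, 2, 3, 4, 5, 6, 7, 8, 9, 12, 11, 10, 15, 14, 13, 17, 16, 19, 18, 21, 20, 22, 23, 24, 25, 26],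
    ![0, 1, 2, 4, 3, 6, 5, 9, 8, 7, 10, 11, 12, 13, 14, 15, 16, 17, 20, 21, 18, 19, 23, 22, 24, 25, 26],
    ![0, 2, 1, 3, 4, 5, 6, 7, 10, 9, 8, 13, 12, 11, 16, 15, 14, 17, 18, 22, 20, 23, 19, 21, 24, 25, 26],
    ![0, 1, 3, 2, 4, 5, 8, 7, 6, 11, 10, 9, 12, 13, 14, 15, 18, 19, 16, 17, 20, 21, 22, 24, 23, 25, 26],
    ![0, 1, 2, 5, 6, 3, 4, 7, 8, 9, 10, 14, 12, 16, 11, 17, 13, 15, 18, 19, 20, 21, 22, 23, 25, 24, 26],
    ![0, 1, 2, 3, 4, 7, 9, 5, 11, 6, 13, 8, 15, 10, 14, 12, 16, 17, 18, 19, 20, 21, 22, 23, 24, 26, 25]]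

theorem pm_ok : ∀ i j m, om (pm i j) m = om j m - if m = i then ∑ n, Am i n * om j n else 0 := by decide +kernel

theorem om_inj : Function.Injective om := by decide +kernel

/-- the value of `b11` -/
def vl (j : Fin 27) : ZMod 11 := ∑ m, (om j m : ZMod 11) * b11 m

theorem card_one : (Finset.univ.filter fun j => vl j = 1).card = 3 := by decide +kernel

theorem card_neg : (Finset.univ.filter fun j => vl j = -1).card = 2 := by decide +kernel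

end Cfsg.Agent.H56.Te6two
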